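import Cfsg.Agent.H83.ClassConst

/-!
# Class coefficients in a group without characters of `p`-defect zero

If the class of `t` has full `p`-part and no character has `p`-defect zero, then all the
coefficients of the square of the class sum are divisible by `p`, and their sum over a Sylow
subgroup by a higher power.
-/

set_option autoImplicit false

open scoped ComplexConjugate

namespace Cfsg.Agent.H65.OddPCent

open Cfsg.Agent.CharBasic Cfsg.Agent.H83

variable {G : Type*} [Group G] [Fintype G] {p a M : ℕ}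

/-- The basic divisibility. -/
theorem coeff_dvd (hp : p.Prime) (hG : Nat.card G = p ^ a * M) (hM : ¬ p ∣ M)
    (hno : ∀ χ : Cfsg.IrrCharacter G, ¬ p ^ a ∣ Cfsg.charDegree (χ : G → ℂ))
    {k n b : ℕ} (hk : p ^ a ∣ k) (t : G)
    (f : Cfsg.IrrCharacter G → ℂ) (hf : ∀ χ, IsIntegral ℤ (f χ))
    (h : (Nat.card G : ℂ) * n = (k : ℂ) * k *
      ∑ χ : Cfsg.IrrCharacter G, conj ((χ : G → ℂ) t) * conj ((χ : G → ℂ) t) *
        ((p : ℂ) ^ b * f χ) / (χ : G → ℂ) 1) :
    p ^ (b + 1) ∣ n := by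
  obtain ⟨k', rfl⟩ := hk
  have hq : ∀ χ : Cfsg.IrrCharacter G, ∃ q : ℕ,
      Cfsg.charDegree (χ : G → ℂ) * (p * q) = p ^ a * M := by
    intro χ
    obtain ⟨q, hq⟩ := charDegree_dvd_card χ.2
    rw [hG] at hq
    have hpq : p ∣ q := by
      by_contra hpq
      apply hno χ
      have hcop : (p ^ a).Coprime q := ((hp.coprime_iff_not_dvd.2 hpq)).pow_left a
      exact hcop.dvd_of_dvd_mul_right ⟨M, hq.symm⟩
    obtain ⟨q', rfl⟩ := hpq
    exact ⟨q', hq.symm⟩
  choose q hq using hq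
  let z : ℂ := ∑ χ : Cfsg.IrrCharacter G, ((k' * k' * q χ : ℕ) : ℂ) *
    (conj ((χ : G → ℂ) t) * conj ((χ : G → ℂ) t) * f χ)
  have hnat : ∀ m : ℕ, IsIntegral ℤ (m : ℂ) := fun m => by
    simpa using (isIntegral_algebraMap (R := ℤ) (x := (m : ℤ)) : IsIntegral ℤ (algebraMap ℤ ℂ m))
  have hz : IsIntegral ℤ z := by
    refine IsIntegral.sum _ fun χ _ => (hnat _).mul ?_
    have hc : IsIntegral ℤ (conj ((χ : G → ℂ) t)) := by
      rw [irr_conj_apply χ.2]; exact irr_isIntegral χ.2 _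
    exact (hc.mul hc).mul (hf χ)
  have hzeq : ((p ^ (a + 1 + b) : ℕ) : ℂ) * z = ((p ^ a * M * n * M : ℕ) : ℂ) := by
    have h2 : ((p ^ a * M * n * M : ℕ) : ℂ) = (Nat.card G : ℂ) * n * M := by
      rw [hG]; push_cast; ring
    rw [h2, h, Finset.mul_sum, Finset.mul_sum, Finset.sum_mul]
    refine Finset.sum_congr rfl fun χ _ => ?_
    obtain ⟨h1, -⟩ := charDegree_eq χ.2
    have hne : (χ : G → ℂ) 1 ≠ 0 := IsIrr.one_ne_zero χ.2
    have hd : (χ : G → ℂ) 1 * ((p : ℂ) * (q χ : ℂ)) = (p : ℂ) ^ a * (M : ℂ) := by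
      rw [h1]
      exact_mod_cast hq χ
    push_cast
    field_simp
    linear_combination ((p : ℂ) ^ (a + b) * (k' : ℂ) ^ 2 * conj ((χ : G → ℂ) t) ^ 2 * f χ) * hd
  have hdvd : ((p ^ (a + 1 + b) : ℕ) : ℤ) ∣ ((p ^ a * M * n * M : ℕ) : ℤ) := by
    refine int_dvd_of_isIntegral hz (by exact_mod_cast (pow_pos hp.pos _).ne') ?_
    simpa using hzeq
  have hdvd' : p ^ (a + 1 + b) ∣ p ^ a * M * n * M := by exact_mod_cast hdvd
  rw [show p ^ (a + 1 + b) = p ^ a * p ^ (b + 1) by rw [← pow_add]; congr 1; omega,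
    show p ^ a * M * n * M = p ^ a * (M * M * n) by ring,
    Nat.mul_dvd_mul_iff_left (pow_pos hp.pos _)] at hdvd'
  exact ((Nat.Coprime.mul_right (hp.coprime_iff_not_dvd.2 hM)
    (hp.coprime_iff_not_dvd.2 hM)).pow_left (b + 1)).dvd_of_dvd_mul_left hdvd'

/-- The number of ways of writing `y` as a product of two conjugates of `t`. -/
noncomputable def pairs (t y : G) : ℕ :=
  Nat.card {x : G // IsConj t x ∧ IsConj t (x⁻¹ * y)}

theorem prime_dvd_pairs (hp : p.Prime) (hG : Nat.card G = p ^ a * M) (hM : ¬ p ∣ M)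
    (hno : ∀ χ : Cfsg.IrrCharacter G, ¬ p ^ a ∣ Cfsg.charDegree (χ : G → ℂ))
    {t : G} (hk : p ^ a ∣ (Subgroup.centralizer ({t} : Set G)).index) (y : G) :
    p ∣ pairs t y := by
  have h := coeff_dvd hp hG hM hno (b := 0) (n := pairs t y) hk t
    (fun χ => (χ : G → ℂ) y) (fun χ => irr_isIntegral χ.2 y)
    (by
      rw [pairs, card_pairs_mul_card]
      simp)
  simpa using h

theorem exists_pair_mem (hp : p.Prime) (hG : Nat.card G = p ^ a * M) (hM : ¬ p ∣ M)
    (hno : ∀ χ : Cfsg.IrrCharacter G, ¬ p ^ a ∣ Cfsg.charDegree (χ : G → ℂ))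
    {t : G} (ht : t⁻¹ = t) (hk : p ^ a ∣ (Subgroup.centralizer ({t} : Set G)).index)
    (P : Subgroup G) (hP : Nat.card P = p ^ a) :
    ∃ c ∈ P, c ≠ 1 ∧ ∃ x : G, IsConj t x ∧ IsConj t (x⁻¹ * c) := by
  classical
  by_contra hcon
  push Not at hcon
  have hsum := fun χ : Cfsg.IrrCharacter G => sum_subgroup_eq (IsIrr.isCharacter χ.2) P
  choose m hm using hsum
  have h := coeff_dvd hp hG hM hno (b := a) (n := ∑ c : P, pairs t (c : G)) hk t
    (fun χ => (m χ : ℂ))
    (fun χ => by simpa using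
      (isIntegral_algebraMap (R := ℤ) (x := (m χ : ℤ)) : IsIntegral ℤ (algebraMap ℤ ℂ (m χ))))
    (by
      have e : ∀ c : P, (Nat.card G : ℂ) * (pairs t (c : G) : ℂ) = _ :=
        fun c => card_pairs_mul_card t t (c : G)
      push_cast
      rw [Finset.mul_sum, Finset.sum_congr rfl fun c _ => e c, ← Finset.mul_sum, Finset.sum_comm]
      refine congrArg _ (Finset.sum_congr rfl fun χ _ => ?_)
      rw [← Finset.sum_div, ← Finset.mul_sum, hm χ, hP, Nat.cast_pow])
  have hone : ∑ c : P, pairs t (c : G) = pairs t 1 := by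
    refine (Finset.sum_eq_single (1 : P) (fun c _ hc => ?_) (by simp)).trans (by simp)
    unfold pairs
    haveI : IsEmpty {x : G // IsConj t x ∧ IsConj t (x⁻¹ * (c : G))} :=
      ⟨fun x => hcon c c.2 (fun hc' => hc (Subtype.ext hc')) x.1 x.2.1 x.2.2⟩
    exact Nat.card_of_isEmpty
  have hclass : pairs t 1 = (Subgroup.centralizer ({t} : Set G)).index := by
    rw [← classSize_eq_index, pairs, Nat.card_eq_fintype_card, Fintype.card_subtype]
    congr 1
    ext x
    simp only [Finset.mem_filter_univ, mul_one, and_iff_left_iff_imp]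
    intro hx
    obtain ⟨g, rfl⟩ := isConj_iff.1 hx
    rw [show (g * t * g⁻¹)⁻¹ = g * t⁻¹ * g⁻¹ by group, ht]
    exact hx
  rw [hone, hclass] at h
  have h2 : p ^ (a + 1) ∣ p ^ a * M := hG ▸ h.trans (Subgroup.index_dvd_card _)
  rw [pow_succ, Nat.mul_dvd_mul_iff_left (pow_pos hp.pos _)] at h2
  exact hM h2

end Cfsg.Agent.H65.OddPCent
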