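import Mathlib
import Cfsg.Agent.H65.Invol

/-!
# Involutions in a group where `p`-elements have centralisers of odd order
-/

set_option autoImplicit false
set_option linter.style.haveILetI false

namespace Cfsg.Agent.H65.OddPCent

open Subgroup
open scoped Pointwise

variable {G : Type*} [Group G] [Finite G] {p : ℕ} [Fact p.Prime]

/-- Nontrivial `p`-elements have centralisers of odd order. -/
def OddCent (p : ℕ) (G : Type*) [Group G] : Prop :=
  ∀ g : G, g ≠ 1 → (∃ k : ℕ, orderOf g = p ^ k) →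
    Odd (Nat.card ↥(Subgroup.centralizer ({g} : Set G)))

theorem not_dvd_card_centralizer (hC : OddCent p G) {t : G} (ht : orderOf t = 2) :
    ¬ p ∣ Nat.card (centralizer ({t} : Set G)) := by
  intro h
  obtain ⟨x, hx⟩ := exists_prime_orderOf_dvd_card' p h
  have hx' : orderOf (x : G) = p := by rwa [orderOf_coe]
  have hx1 : (x : G) ≠ 1 := fun h1 => by
    rw [h1, orderOf_one] at hx'; exact (Fact.out : p.Prime).ne_one hx'.symm
  have hodd := hC x hx1 ⟨1, by rw [pow_one]; exact hx'⟩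
  have ht' : t ∈ centralizer ({(x : G)} : Set G) :=
    mem_centralizer_singleton_iff.2 (mem_centralizer_singleton_iff.1 x.2).symm
  have := orderOf_dvd_natCard (⟨t, ht'⟩ : centralizer ({(x : G)} : Set G))
  rw [orderOf_mk, ht] at this
  exact (Nat.not_even_iff_odd.2 hodd) (even_iff_two_dvd.2 this)

/-- An involution normalising a `p`-subgroup inverts it. -/
theorem inverts_of_normalizes (hC : OddCent p G) {t : G} (ht : orderOf t = 2) {U : Subgroup G}
    (hU : IsPGroup p U) (hn : ∀ u ∈ U, t * u * t⁻¹ ∈ U) :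
    ∀ u ∈ U, t * u * t⁻¹ = u⁻¹ := by
  let φ : U →* U :=
    { toFun := fun u => ⟨t * u * t⁻¹, hn u u.2⟩
      map_one' := Subtype.ext (by simp)
      map_mul' := fun u v => Subtype.ext (by simp [mul_assoc]) }
  have h2 : Function.Involutive φ := fun u => Subtype.ext (by
    show t * (t * u * t⁻¹) * t⁻¹ = u
    rw [H65.inv_eq_self ht]
    simp only [← mul_assoc, H65.mul_self_eq_one ht, one_mul]
    rw [mul_assoc, H65.mul_self_eq_one ht, mul_one])
  have hfpf : MonoidHom.FixedPointFree φ := by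
    intro u hu
    by_contra h1
    have h1' : (u : G) ≠ 1 := fun h => h1 (Subtype.ext h)
    obtain ⟨k, hk⟩ := IsPGroup.iff_orderOf.1 hU u
    have hodd := hC u h1' ⟨k, by rw [orderOf_coe]; exact hk⟩
    have hc : t * u = u * t := mul_inv_eq_iff_eq_mul.1 (congrArg Subtype.val hu)
    have := orderOf_dvd_natCard
      (⟨t, mem_centralizer_singleton_iff.2 hc⟩ : centralizer ({(u : G)} : Set G))
    rw [orderOf_mk, ht] at this
    exact (Nat.not_even_iff_odd.2 hodd) (even_iff_two_dvd.2 this)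
  intro u hu
  have := congrFun (hfpf.coe_eq_inv_of_involutive h2) ⟨u, hu⟩
  exact congrArg Subtype.val this

omit [Finite G] in
theorem commute_of_inverted {t : G} {U : Subgroup G} (h : ∀ u ∈ U, t * u * t⁻¹ = u⁻¹) {u v : G}
    (hu : u ∈ U) (hv : v ∈ U) : Commute u v := by
  have e : (u * v)⁻¹ = u⁻¹ * v⁻¹ := by
    rw [← h u hu, ← h v hv, ← h (u * v) (mul_mem hu hv)]; group
  rw [mul_inv_rev] at e
  have := congrArg Inv.inv e
  exact (by simpa [mul_inv_rev] using this : u * v = v * u)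

omit [Finite G] [Fact p.Prime] in
/-- A `p`-element commuting with a Sylow subgroup lies in it. -/
theorem mem_of_commute_sylow (Q : Sylow p G) {c : G} (hc : IsPGroup p (zpowers c))
    (h : ∀ u ∈ Q, Commute c u) : c ∈ Q := by
  have hle : (Q : Subgroup G) ≤ normalizer (zpowers c : Set G) := by
    intro u hu
    refine mem_normalizer_iff.2 fun y => ?_
    constructor
    · rintro ⟨i, rfl⟩
      exact ⟨i, by
        show c ^ i = u * c ^ i * u⁻¹
        rw [← ((h u hu).zpow_left i).eq, mul_inv_cancel_right]⟩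
    · rintro ⟨i, hi⟩
      refine ⟨i, ?_⟩
      have hi' : c ^ i = u * y * u⁻¹ := hi
      have := ((h u hu).zpow_left i).eq
      show c ^ i = y
      calc c ^ i = u⁻¹ * (u * c ^ i) := by group
        _ = u⁻¹ * (c ^ i * u) := by rw [this]
        _ = y := by rw [hi']; group
  have hsup := Q.is_maximal' (Q.isPGroup'.to_sup_of_normal_right' hc hle) le_sup_left
  show c ∈ (Q : Subgroup G)
  rw [← hsup]
  exact (le_sup_right : zpowers c ≤ (Q : Subgroup G) ⊔ zpowers c) (mem_zpowers c)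

/-- An involution normalising a subgroup of odd order fixes one of its Sylow subgroups. -/
theorem exists_fixed_sylow {t : G} (ht : orderOf t = 2) {C : Subgroup G}
    (hn : ∀ u ∈ C, t * u * t⁻¹ ∈ C) (hodd : Odd (Nat.card C)) :
    ∃ Q : Sylow p C, ∀ u : C, u ∈ Q → (⟨t * u * t⁻¹, hn u u.2⟩ : C) ∈ Q := by
  classical
  have htt : ∀ y : G, t * (t * y * t⁻¹) * t⁻¹ = y := fun y => by
    rw [H65.inv_eq_self ht]
    simp only [← mul_assoc, H65.mul_self_eq_one ht, one_mul]
    rw [mul_assoc, H65.mul_self_eq_one ht, mul_one]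
  let φ : MulAut C :=
    { toFun := fun u => ⟨t * u * t⁻¹, hn u u.2⟩
      invFun := fun u => ⟨t * u * t⁻¹, hn u u.2⟩
      left_inv := fun u => Subtype.ext (htt u)
      right_inv := fun u => Subtype.ext (htt u)
      map_mul' := fun u v => Subtype.ext (by simp [mul_assoc]) }
  have hφ : φ * φ = 1 := MulEquiv.ext fun u => Subtype.ext (htt u)
  letI := Fintype.ofFinite (Sylow p C)
  haveI : Fact (Nat.Prime 2) := ⟨Nat.prime_two⟩
  have hodd' : ¬ 2 ∣ Fintype.card (Sylow p C) := by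
    rw [← Nat.card_eq_fintype_card]
    intro h
    obtain ⟨Q⟩ : Nonempty (Sylow p C) := inferInstance
    rw [Sylow.card_eq_index_normalizer Q] at h
    exact (Nat.not_even_iff_odd.2 hodd) (even_iff_two_dvd.2 (h.trans (index_dvd_card _)))
  have hσ : (MulAction.toPermHom (MulAut C) (Sylow p C) φ) ^ 2 ^ 1 = 1 := by
    rw [pow_one, sq, ← map_mul, hφ, map_one]
  obtain ⟨Q, hQ⟩ := Equiv.Perm.exists_fixed_point_of_prime hodd' hσ
  refine ⟨Q, fun u hu => ?_⟩
  have h1 : φ • u ∈ φ • (Q : Subgroup C) := smul_mem_pointwise_smul u φ _ hu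
  have h2 : φ • (Q : Subgroup C) = (Q : Subgroup C) := by
    have hQ' : φ • Q = Q := hQ
    conv_rhs => rw [← hQ']
    rfl
  rw [h2] at h1
  exact h1

omit [Fact p.Prime] in
theorem normalizes_centralizer {t x : G} (hx : t * x * t⁻¹ = x⁻¹) :
    ∀ u ∈ centralizer ({x} : Set G), t * u * t⁻¹ ∈ centralizer ({x} : Set G) := by
  intro u hu
  have hu' : Commute u x := mem_centralizer_singleton_iff.1 hu
  have h : Commute (t * u * t⁻¹) (t * x * t⁻¹) := by
    show t * u * t⁻¹ * (t * x * t⁻¹) = t * x * t⁻¹ * (t * u * t⁻¹)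
    rw [show t * u * t⁻¹ * (t * x * t⁻¹) = t * (u * x) * t⁻¹ by group, hu'.eq]
    group
  rw [hx] at h
  exact mem_centralizer_singleton_iff.2 (Commute.inv_right_iff.1 h).eq

/-- An involution inverting a nontrivial `p`-element inverts a Sylow subgroup. -/
theorem exists_inverted_sylow (hC : OddCent p G) {t x : G} (ht : orderOf t = 2) (hx1 : x ≠ 1)
    (hxp : ∃ k : ℕ, orderOf x = p ^ k) (hx : t * x * t⁻¹ = x⁻¹) :
    ∃ P : Sylow p G, ∀ u ∈ P, t * u * t⁻¹ = u⁻¹ := by
  classical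
  obtain ⟨k, hk⟩ := hxp
  set C := centralizer ({x} : Set G) with hCdef
  obtain ⟨Q, hQ⟩ := exists_fixed_sylow (p := p) ht (normalizes_centralizer hx) (hC x hx1 ⟨k, hk⟩)
  have hxC : x ∈ C := mem_centralizer_singleton_iff.2 rfl
  set Q0 := (Q : Subgroup C).map C.subtype with hQ0
  have hQ0p : IsPGroup p Q0 := Q.isPGroup'.map _
  have hQ0inv : ∀ u ∈ Q0, t * u * t⁻¹ = u⁻¹ := by
    refine inverts_of_normalizes hC ht hQ0p ?_
    rintro _ ⟨u, hu, rfl⟩
    exact ⟨_, hQ u hu, rfl⟩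
  obtain ⟨P, hP⟩ := hQ0p.exists_le_sylow
  have hxQ : (⟨x, hxC⟩ : C) ∈ Q := by
    refine mem_of_commute_sylow Q ?_ fun u _ => Subtype.ext
      (mem_centralizer_singleton_iff.1 u.2).symm
    refine IsPGroup.of_card (n := k) ?_
    rw [Nat.card_zpowers, orderOf_mk, hk]
  have hxP : x ∈ P := hP ⟨⟨x, hxC⟩, hxQ, rfl⟩
  haveI : Nontrivial P := ⟨⟨⟨x, hxP⟩, 1, fun h => hx1 (congrArg Subtype.val h)⟩⟩
  obtain ⟨⟨z, hz⟩, hz1⟩ := @exists_ne _ (IsPGroup.center_nontrivial P.isPGroup') 1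
  have hzc : ∀ u ∈ P, Commute (z : G) u := fun u hu =>
    (congrArg Subtype.val (mem_center_iff.1 hz ⟨u, hu⟩)).symm
  have hz1' : (z : G) ≠ 1 := fun h => hz1 (Subtype.ext (Subtype.ext h))
  have hzC : (z : G) ∈ C := mem_centralizer_singleton_iff.2 (hzc x hxP).eq
  obtain ⟨j, hj⟩ := IsPGroup.iff_orderOf.1 P.isPGroup' z
  have hjG : orderOf (z : G) = p ^ j := by rw [orderOf_coe]; exact hj
  have hzQ : (⟨z, hzC⟩ : C) ∈ Q := by
    refine mem_of_commute_sylow Q ?_ fun u hu => Subtype.ext (hzc u (hP ⟨u, hu, rfl⟩)).eq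
    refine IsPGroup.of_card (n := j) ?_
    rw [Nat.card_zpowers, orderOf_mk, hjG]
  have hzinv : t * (z : G) * t⁻¹ = (z : G)⁻¹ := hQ0inv z ⟨⟨z, hzC⟩, hzQ, rfl⟩
  set C2 := centralizer ({(z : G)} : Set G) with hC2
  obtain ⟨R, hR⟩ := exists_fixed_sylow (p := p) ht (normalizes_centralizer hzinv)
    (hC z hz1' ⟨j, hjG⟩)
  set R0 := (R : Subgroup C2).map C2.subtype with hR0
  have hR0inv : ∀ u ∈ R0, t * u * t⁻¹ = u⁻¹ := by
    refine inverts_of_normalizes hC ht (R.isPGroup'.map _) ?_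
    rintro _ ⟨u, hu, rfl⟩
    exact ⟨_, hR u hu, rfl⟩
  obtain ⟨S, hS⟩ := (R.isPGroup'.map C2.subtype).exists_le_sylow
  have hPC2 : (P : Subgroup G) ≤ C2 := fun u hu =>
    mem_centralizer_singleton_iff.2 (hzc u hu).eq.symm
  obtain ⟨R', hR'⟩ := (P.isPGroup'.comap_subtype (K := C2)).exists_le_sylow
  have hcard : Nat.card S ≤ Nat.card R0 := by
    rw [S.card_eq_multiplicity, ← P.card_eq_multiplicity, hR0,
      card_map_of_injective C2.subtype_injective, R.card_eq_multiplicity,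
      ← R'.card_eq_multiplicity, ← Nat.card_congr (subgroupOfEquivOfLe hPC2).toEquiv]
    exact Nat.le_of_dvd Nat.card_pos (card_dvd_of_le hR')
  have hSR : (R0 : Subgroup G) = (S : Subgroup G) := eq_of_le_of_card_ge hS hcard
  exact ⟨S, fun u hu => hR0inv u (by rw [hSR]; exact hu)⟩

end Cfsg.Agent.H65.OddPCent
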