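import Cfsg.Agent.H65.OddPCent.Coeff
import Cfsg.Agent.H65.OddPCent.Sylow
import Cfsg.Agent.Cores.Constrained
import Cfsg.Agent.S0205

/-!
# The transitive action of prime power degree
-/

set_option autoImplicit false
set_option linter.style.haveILetI false
set_option linter.unusedSectionVars false

namespace Cfsg.Agent.H65.OddPCent

open Subgroup MulAction

/-- The hypotheses used in the geometric part. -/
structure Data (p : ℕ) (G Ω : Type*) [Group G] [MulAction G Ω] : Prop where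
  hC : OddCent p G
  two : p ≠ 2
  dvd : p ∣ Nat.card G
  invert : ∀ t : G, orderOf t = 2 → ∃ P : Sylow p G, ∀ u ∈ P, t * u * t⁻¹ = u⁻¹
  exists_invol : ∃ t : G, orderOf t = 2
  degree : ∃ r : ℕ, Nat.card Ω = p ^ r
  pairs : ∀ t y : G, orderOf t = 2 → p ∣ Nat.card {x : G // IsConj t x ∧ IsConj t (x⁻¹ * y)}

variable {G Ω : Type*} [Group G] [Finite G] [MulAction G Ω] [Finite Ω] [FaithfulSMul G Ω]
  [IsPretransitive G Ω] {p : ℕ} [hp : Fact p.Prime]

namespace Data

variable (D : Data p G Ω)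
include D

theorem sylow_inverted (P : Sylow p G) :
    ∃ t : G, orderOf t = 2 ∧ ∀ u ∈ P, t * u * t⁻¹ = u⁻¹ := by
  obtain ⟨t, ht⟩ := D.exists_invol
  obtain ⟨Q, hQ⟩ := D.invert t ht
  obtain ⟨g, hg⟩ := exists_smul_eq G Q P
  refine ⟨g * t * g⁻¹, by rw [H65.orderOf_conj', ht], fun u hu => ?_⟩
  rw [← hg] at hu
  obtain ⟨v, hv, rfl⟩ : ∃ v ∈ Q, g * v * g⁻¹ = u := by
    have hu' : u ∈ ((g • Q : Sylow p G) : Subgroup G) := hu
    rw [Sylow.coe_subgroup_smul] at hu'
    obtain ⟨v, hv, rfl⟩ := hu'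
    exact ⟨v, hv, rfl⟩
  calc g * t * g⁻¹ * (g * v * g⁻¹) * (g * t * g⁻¹)⁻¹ = g * (t * v * t⁻¹) * g⁻¹ := by group
    _ = g * v⁻¹ * g⁻¹ := by rw [hQ v hv]
    _ = (g * v * g⁻¹)⁻¹ := by group

theorem sylow_comm (P : Sylow p G) {u v : G} (hu : u ∈ P) (hv : v ∈ P) : Commute u v := by
  obtain ⟨t, -, h⟩ := D.sylow_inverted P
  exact commute_of_inverted (U := (P : Subgroup G)) h hu hv

theorem sylow_transitive (P : Sylow p G) (a b : Ω) : ∃ q ∈ P, q • a = b := by
  obtain ⟨r, hr⟩ := D.degree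
  set Pa := stabilizer P a with hPa
  have h1 : (orbit P a).ncard * Nat.card Pa = Nat.card P := by
    rw [← index_stabilizer]; exact index_mul_card _
  obtain ⟨j, hj⟩ := IsPGroup.iff_card.1 (P.isPGroup'.to_subgroup Pa)
  let f : Pa →* stabilizer G a :=
    { toFun := fun u => ⟨((u : P) : G), u.2⟩
      map_one' := rfl
      map_mul' := fun _ _ => rfl }
  have hf : Function.Injective f := fun u v h => Subtype.ext (Subtype.ext (congrArg Subtype.val h :))
  have h2 : p ^ r * Nat.card Pa ∣ Nat.card G := by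
    rw [← (stabilizer G a).card_mul_index, index_stabilizer_of_transitive, hr, mul_comm]
    exact mul_dvd_mul (Subgroup.card_dvd_of_injective f hf) dvd_rfl
  have h3 : p ^ r * Nat.card Pa ∣ Nat.card P := by
    rw [hj, ← pow_add] at h2 ⊢
    rw [P.card_eq_multiplicity]
    exact pow_dvd_pow p ((hp.out.pow_dvd_iff_le_factorization Nat.card_pos.ne').1 h2)
  rw [← h1, Nat.mul_dvd_mul_iff_right Nat.card_pos] at h3
  haveI : Nonempty (orbit P a) := (nonempty_orbit a).to_subtype
  have hpos : 0 < (orbit P a).ncard := (nonempty_orbit a).ncard_pos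
  have h4 : orbit P a = Set.univ := by
    refine Set.eq_of_subset_of_ncard_le (Set.subset_univ _) ?_
    rw [Set.ncard_univ, hr]
    exact Nat.le_of_dvd hpos h3
  obtain ⟨q, hq⟩ : b ∈ orbit P a := h4 ▸ Set.mem_univ b
  exact ⟨q, q.2, hq⟩

theorem sylow_regular (P : Sylow p G) {u : G} (hu : u ∈ P) {a : Ω} (h : u • a = a) : u = 1 := by
  refine eq_of_smul_eq_smul (α := Ω) fun b => ?_
  obtain ⟨q, hq, rfl⟩ := D.sylow_transitive P a b
  rw [one_smul, ← mul_smul, (D.sylow_comm P hu hq).eq, mul_smul, h]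

theorem eq_one_of_commute (P : Sylow p G) {c : G} (hc : ∀ u ∈ P, Commute c u) {a : Ω}
    (h : c • a = a) : c = 1 := by
  refine eq_of_smul_eq_smul (α := Ω) fun b => ?_
  obtain ⟨q, hq, rfl⟩ := D.sylow_transitive P a b
  rw [one_smul, ← mul_smul, (hc q hq).eq, mul_smul, h]

theorem not_dvd_stabilizer (a : Ω) : ¬ p ∣ Nat.card (stabilizer G a) := by
  intro h
  obtain ⟨x, hx⟩ := exists_prime_orderOf_dvd_card' p h
  have hxG : orderOf (x : G) = p := by rwa [orderOf_coe]
  obtain ⟨P, hP⟩ := (IsPGroup.of_card (p := p) (n := 1)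
    (show Nat.card (zpowers (x : G)) = p ^ 1 by rw [Nat.card_zpowers, hxG, pow_one])).exists_le_sylow
  have := D.sylow_regular P (hP (mem_zpowers (x : G))) x.2
  rw [this, orderOf_one] at hxG
  exact hp.out.ne_one hxG.symm

theorem existsUnique_fixed {t : G} (ht : orderOf t = 2) : ∃! a : Ω, t • a = a := by
  obtain ⟨P, hP⟩ := D.invert t ht
  obtain ⟨r, hr⟩ := D.degree
  haveI : Nonempty Ω := by
    by_contra h
    rw [not_nonempty_iff] at h
    rw [Nat.card_of_isEmpty] at hr
    exact (pow_pos hp.out.pos r).ne' hr.symm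
  obtain ⟨a⟩ : Nonempty Ω := inferInstance
  obtain ⟨s, hs, hsa⟩ := D.sylow_transitive P a (t • a)
  have hfix : ∀ q ∈ P, t • q • a = q • a ↔ q * q = s := by
    intro q hq
    have e : t • q • a = (q⁻¹ * s) • a := by
      rw [← mul_smul, show t * q = q⁻¹ * t by rw [← hP q hq]; group, mul_smul, ← hsa, mul_smul]
    rw [e]
    refine ⟨fun h => ?_, fun h => by rw [← h]; group⟩
    have := D.sylow_regular P (mul_mem (inv_mem hq) (mul_mem (inv_mem hq) hs))
      (u := q⁻¹ * (q⁻¹ * s)) (a := a) (by rw [mul_smul, h, inv_smul_smul])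
    rw [← mul_assoc, ← mul_inv_rev, inv_mul_eq_one] at this
    exact this
  have hcop : (Nat.card P).Coprime 2 := by
    obtain ⟨k, hk⟩ := IsPGroup.iff_card.1 P.isPGroup'
    rw [hk]
    exact ((Nat.coprime_primes hp.out Nat.prime_two).2 D.two).pow_left k
  refine ⟨((powCoprime hcop).symm ⟨s, hs⟩ : G) • a, ?_, ?_⟩
  · show t • _ = _
    rw [hfix _ (SetLike.coe_mem _), ← sq]
    have := (powCoprime hcop).apply_symm_apply ⟨s, hs⟩
    simpa [powCoprime] using congrArg Subtype.val this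
  · intro b hb
    obtain ⟨q, hq, rfl⟩ := D.sylow_transitive P a b
    have h1 : q * q = s := (hfix q hq).1 hb
    have h2 : powCoprime hcop ⟨q, hq⟩ = ⟨s, hs⟩ := Subtype.ext (by simp [powCoprime, sq, h1])
    rw [← h2, Equiv.symm_apply_apply]

/-- The point of an involution. -/
noncomputable def pt {t : G} (ht : orderOf t = 2) : Ω := (D.existsUnique_fixed ht).exists.choose

theorem smul_pt {t : G} (ht : orderOf t = 2) : t • D.pt ht = D.pt ht :=
  (D.existsUnique_fixed ht).exists.choose_spec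

theorem eq_pt {t : G} (ht : orderOf t = 2) {a : Ω} (h : t • a = a) : a = D.pt ht :=
  (D.existsUnique_fixed ht).unique h (D.smul_pt ht)

theorem pt_eq_of_commute {u v : G} (hu : orderOf u = 2) (hv : orderOf v = 2) (h : Commute u v) :
    D.pt hu = D.pt hv := by
  have h1 : v • D.pt hu = D.pt hu := by
    refine D.eq_pt hu ?_
    rw [← mul_smul, h.eq, mul_smul, D.smul_pt hu]
  exact D.eq_pt hv h1

theorem odd_orderOf_mul {u v : G} (hu : orderOf u = 2) (hv : orderOf v = 2)
    (h : D.pt hu ≠ D.pt hv) : Odd (orderOf (u * v)) := by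
  by_contra hev
  rw [Nat.not_odd_iff_even] at hev
  obtain ⟨k, hk⟩ := hev
  have hpos : 0 < orderOf (u * v) := orderOf_pos _
  have hz : orderOf ((u * v) ^ k) = 2 := by
    rw [orderOf_pow' _ (by omega : k ≠ 0), Nat.gcd_eq_right ⟨2, by omega⟩, hk,
      show k + k = 2 * k by omega, Nat.mul_div_cancel _ (by omega)]
  have huv : u * (u * v) * u⁻¹ = (u * v)⁻¹ := by
    rw [← mul_assoc, H65.mul_self_eq_one hu, one_mul, mul_inv_rev, H65.inv_eq_self hu,
      H65.inv_eq_self hv]
  have hzu : Commute ((u * v) ^ k) u := by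
    have : u * (u * v) ^ k * u⁻¹ = (u * v) ^ k := by
      rw [← conj_pow, huv, inv_pow, H65.inv_eq_self hz]
    exact (mul_inv_eq_iff_eq_mul.1 this).symm
  have hzv : Commute ((u * v) ^ k) v := by
    have h2 : Commute ((u * v) ^ k) (u * (u * v)) :=
      hzu.mul_right (Commute.pow_self _ _)
    rwa [← mul_assoc, H65.mul_self_eq_one hu, one_mul] at h2
  exact h ((D.pt_eq_of_commute hz hu hzu).symm.trans (D.pt_eq_of_commute hz hv hzv))

/-- Case A: two involutions with different points cannot have a product fixing a point. -/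
theorem pt_eq_of_fixed {u v : G} (hu : orderOf u = 2) (hv : orderOf v = 2) {a : Ω}
    (ha : (u * v) • a = a) : D.pt hu = D.pt hv := by
  classical
  by_contra hne
  have hvv := H65.inv_eq_self hv
  have huu := H65.inv_eq_self hu
  set g := u * v with hg
  have hgodd : Odd (orderOf g) := D.odd_orderOf_mul hu hv hne
  have hug : u * g * u⁻¹ = g⁻¹ := by
    rw [hg, ← mul_assoc, H65.mul_self_eq_one hu, one_mul, mul_inv_rev, huu, hvv]
  have hvg : v * g * v⁻¹ = g⁻¹ := by
    rw [hg, mul_inv_rev, huu, hvv, show v * (u * v) * v = v * u * (v * v) by group,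
      H65.mul_self_eq_one hv, mul_one]
  have hgne : ¬ g⁻¹ = g := by
    intro h
    have h2 : g ^ 2 = 1 := by
      rw [sq]; nth_rw 1 [← h]; exact inv_mul_cancel g
    have := (Nat.dvd_prime Nat.prime_two).1 (orderOf_dvd_of_pow_eq_one h2)
    rcases this with h1 | h1
    · rw [orderOf_eq_one_iff, hg] at h1
      apply hne
      have : u = v := by rw [← mul_inv_eq_one, hvv]; exact h1
      subst this
      rfl
    · rw [h1] at hgodd; exact absurd hgodd (by decide)
  -- no involution centralises `g`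
  have hnoinv : ∀ w : G, orderOf w = 2 → ¬ Commute w g := by
    intro w hw hwg
    obtain ⟨y, hy, hyg, hyw⟩ : ∃ (y : G) (hy : orderOf y = 2), y * g * y⁻¹ = g⁻¹ ∧
        D.pt hy ≠ D.pt hw := by
      by_cases hc : D.pt hu = D.pt hw
      · exact ⟨v, hv, hvg, fun h => hne (hc.trans h.symm)⟩
      · exact ⟨u, hu, hug, hc⟩
    have hwg' : w * g * w⁻¹ = g := by rw [hwg.eq, mul_inv_cancel_right]
    obtain ⟨k, hk⟩ := D.odd_orderOf_mul hy hw hyw
    have hinv : y * g⁻¹ * y⁻¹ = g := by
      rw [show y * g⁻¹ * y⁻¹ = (y * g * y⁻¹)⁻¹ by group, hyg, inv_inv]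
    have h1 : (y * w) * g * (y * w)⁻¹ = g⁻¹ := by
      rw [show (y * w) * g * (y * w)⁻¹ = y * (w * g * w⁻¹) * y⁻¹ by group, hwg', hyg]
    have h2 : Commute ((y * w) ^ 2) g := by
      have : (y * w) ^ 2 * g * ((y * w) ^ 2)⁻¹ = g := by
        rw [show (y * w) ^ 2 * g * ((y * w) ^ 2)⁻¹ =
          (y * w) * ((y * w) * g * (y * w)⁻¹) * (y * w)⁻¹ by rw [sq]; group, h1,
          show (y * w) * g⁻¹ * (y * w)⁻¹ = ((y * w) * g * (y * w)⁻¹)⁻¹ by group, h1, inv_inv]
      exact mul_inv_eq_iff_eq_mul.1 this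
    apply hgne
    have h3 : (y * w) ^ orderOf (y * w) * g * ((y * w) ^ orderOf (y * w))⁻¹ = g⁻¹ := by
      rw [hk, pow_succ', pow_mul]
      have h5 := (h2.pow_left k).eq
      generalize ((y * w) ^ 2) ^ k = A at h5
      generalize y * w = B at h1
      rw [show B * A * g * (B * A)⁻¹ = B * (A * g * A⁻¹) * B⁻¹ by group, h5, mul_inv_cancel_right,
        h1]
    rw [pow_orderOf_eq_one, one_mul, inv_one, mul_one] at h3
    exact h3.symm
  -- `p` does not divide the order of the centraliser of `g`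
  set Cg := centralizer ({g} : Set G) with hCg
  have hpC : ¬ p ∣ Nat.card Cg := by
    intro h
    obtain ⟨⟨x, hxC⟩, hx⟩ := exists_prime_orderOf_dvd_card' p h
    rw [orderOf_mk] at hx
    have hxg : Commute x g := mem_centralizer_singleton_iff.1 hxC
    have hx1 : x ≠ 1 := fun h1 => by rw [h1, orderOf_one] at hx; exact hp.out.ne_one hx.symm
    obtain ⟨P, hP⟩ := (IsPGroup.of_card (p := p) (n := 1)
      (show Nat.card (zpowers x) = p ^ 1 by rw [Nat.card_zpowers, hx, pow_one])).exists_le_sylow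
    set C := centralizer ({x} : Set G) with hCdef
    have hPC : (P : Subgroup G) ≤ C := fun q hq =>
      mem_centralizer_singleton_iff.2 (D.sylow_comm P hq (hP (mem_zpowers x))).eq
    haveI : IsPretransitive C Ω := ⟨fun b c => by
      obtain ⟨q, hq, hqc⟩ := D.sylow_transitive P b c
      exact ⟨⟨q, hPC hq⟩, hqc⟩⟩
    have hodd : Odd (Nat.card C) := D.hC x hx1 ⟨1, by rw [pow_one]; exact hx⟩
    haveI : Group.IsSolvable C := Cfsg.Agent.S0205.result hodd
    obtain ⟨r, hr⟩ := D.degree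
    have hcore : Cfsg.pPrimeCore p C = ⊥ := by
      rw [eq_bot_iff]
      intro n hn
      rw [Subgroup.mem_bot]
      refine Subtype.ext (eq_of_smul_eq_smul (α := Ω) fun b => ?_)
      set N := Cfsg.pPrimeCore p C with hN
      have h1 : (orbit N b).ncard ∣ p ^ r := hr ▸
        (IsBlock.orbit_of_normal (N := N) b).ncard_dvd_card (nonempty_orbit b)
      have h2 : (orbit N b).ncard ∣ Nat.card N := by
        rw [← index_stabilizer]; exact index_dvd_card _
      have h3 : (orbit N b).ncard = 1 :=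
        Nat.eq_one_of_dvd_coprimes ((Cores.coprime_card_pPrimeCore).pow_right r) h2 h1
      obtain ⟨c, hc⟩ := Set.ncard_eq_one.1 h3
      have hb : b ∈ orbit N b := mem_orbit_self b
      have hnb : ((⟨n, hn⟩ : N) • b) ∈ orbit N b := mem_orbit _ _
      rw [hc, Set.mem_singleton_iff] at hb hnb
      rw [show (((1 : C) : G) • b) = b from one_smul G b]
      exact hnb.trans hb.symm
    have hHH := Cores.centralizer_pCore_le (Cores.isPSolvable_of_isSolvable (p := p) (G := C)) hcore
    have hPn : ∀ q ∈ P, g * q * g⁻¹ ∈ P := by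
      have hgC : g ∈ C := mem_centralizer_singleton_iff.2 hxg.eq.symm
      have heq : (P.subtype hPC : Subgroup C) ≤ Cfsg.pCore p C := by
        intro q hq
        refine hHH (mem_centralizer_iff.2 fun m hm => Subtype.ext ?_)
        exact (D.sylow_comm P (Cores.pCore_le_sylow (P.subtype hPC) hm) hq).eq
      intro q hq
      have h1 : (⟨g, hgC⟩ : C) * ⟨q, hPC hq⟩ * (⟨g, hgC⟩ : C)⁻¹ ∈ Cfsg.pCore p C :=
        Normal.conj_mem inferInstance _ (heq hq) _
      exact Cores.pCore_le_sylow (P.subtype hPC) h1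
    have hPn' : ∀ q ∈ P, g⁻¹ * q * g ∈ P := by
      intro q hq
      have hmem : ∀ k : ℕ, ∀ q ∈ P, g ^ k * q * (g ^ k)⁻¹ ∈ P := by
        intro k
        induction k with
        | zero => simp
        | succ k ih =>
          intro q hq
          have := hPn _ (ih q hq)
          rw [pow_succ']
          simpa [mul_assoc] using this
      have h1 := hmem (orderOf g - 1) q hq
      have h2 : g ^ (orderOf g - 1) = g⁻¹ := by
        rw [eq_inv_iff_mul_eq_one, ← pow_succ, Nat.sub_add_cancel (orderOf_pos g),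
          pow_orderOf_eq_one]
      rwa [h2, inv_inv] at h1
    obtain ⟨t₀, ht₀, ht₀P⟩ := D.sylow_inverted P
    obtain ⟨q, hq, hqa⟩ := D.sylow_transitive P (D.pt ht₀) a
    set w := q * t₀ * q⁻¹ with hw
    have hw2 : orderOf w = 2 := by rw [hw, H65.orderOf_conj', ht₀]
    have hwa : w • a = a := by
      rw [← hqa, hw, mul_smul, mul_smul, inv_smul_smul, D.smul_pt ht₀]
    have hwP : ∀ z ∈ P, w * z * w⁻¹ = z⁻¹ := by
      intro z hz
      rw [hw, show q * t₀ * q⁻¹ * z * (q * t₀ * q⁻¹)⁻¹ =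
        q * (t₀ * (q⁻¹ * z * q) * t₀⁻¹) * q⁻¹ by group,
        (D.sylow_comm P (inv_mem hq) hz).eq, inv_mul_cancel_right, ht₀P z hz,
        (D.sylow_comm P hq (inv_mem hz)).eq, mul_inv_cancel_right]
    have hga : g • a = a := ha
    have hgia : g⁻¹ • a = a := inv_smul_eq_iff.2 hga.symm
    have hwi : w⁻¹ • a = a := inv_smul_eq_iff.2 hwa.symm
    have hc1 : g * w * g⁻¹ * w⁻¹ = 1 := by
      refine D.eq_one_of_commute P (a := a) (fun z hz => ?_)
        (by rw [mul_smul, mul_smul, mul_smul, hwi, hgia, hwa, hga])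
      have hwz : w⁻¹ * z * w = z⁻¹ := by
        have := hwP z hz
        rwa [H65.inv_eq_self hw2] at this ⊢
      have e : g * w * g⁻¹ * w⁻¹ * z * (g * w * g⁻¹ * w⁻¹)⁻¹ = z := by
        calc g * w * g⁻¹ * w⁻¹ * z * (g * w * g⁻¹ * w⁻¹)⁻¹
            = g * (w * (g⁻¹ * (w⁻¹ * z * w) * g) * w⁻¹) * g⁻¹ := by group
          _ = g * (g⁻¹ * z⁻¹ * g)⁻¹ * g⁻¹ := by
            rw [hwz, hwP _ (hPn' _ (inv_mem hz))]
          _ = z := by group
      exact mul_inv_eq_iff_eq_mul.1 e
    refine hnoinv w hw2 ?_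
    have e : g * w = w * g := by
      rw [mul_inv_eq_one, mul_inv_eq_iff_eq_mul] at hc1
      exact hc1
    exact e.symm
  -- the pairs are the conjugates of `u` under the centraliser of `g`
  set K := Cg.map (ConjAct.toConjAct (G := G)).toMonoidHom with hK
  have hset : ∀ x : G, (IsConj u x ∧ IsConj u (x⁻¹ * g)) ↔ x ∈ orbit K u := by
    have key : ∀ x : G, orderOf x = 2 → x * g * x⁻¹ = g⁻¹ → x ∈ orbit K u := by
      intro x hx hxg
      have hmem : x * u ∈ Cg := by
        refine mem_centralizer_singleton_iff.2 (mul_inv_eq_iff_eq_mul.1 ?_)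
        rw [show x * u * g * (x * u)⁻¹ = x * (u * g * u⁻¹) * x⁻¹ by group, hug,
          show x * g⁻¹ * x⁻¹ = (x * g * x⁻¹)⁻¹ by group, hxg, inv_inv]
      have hodd : Odd (orderOf (x * u)) := by
        rw [← Nat.not_even_iff_odd]
        intro hev
        obtain ⟨k, hk⟩ := hev
        have hpos : 0 < orderOf (x * u) := orderOf_pos _
        have hz : orderOf ((x * u) ^ k) = 2 := by
          rw [orderOf_pow' _ (by omega : k ≠ 0), Nat.gcd_eq_right ⟨2, by omega⟩, hk,
            show k + k = 2 * k by omega, Nat.mul_div_cancel _ (by omega)]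
        exact hnoinv _ hz (mem_centralizer_singleton_iff.1 (pow_mem hmem k))
      obtain ⟨j, hj⟩ := hodd
      refine ⟨⟨ConjAct.toConjAct ((x * u) ^ (j + 1)), ⟨_, pow_mem hmem _, rfl⟩⟩, ?_⟩
      show ConjAct.toConjAct ((x * u) ^ (j + 1)) • u = x
      rw [ConjAct.toConjAct_smul]
      have hxu : ∀ i : ℕ, u * ((x * u) ^ i)⁻¹ = (x * u) ^ i * u := by
        intro i
        have h1 : u * (x * u) * u⁻¹ = (x * u)⁻¹ := by
          rw [mul_inv_rev, H65.inv_eq_self hx, huu, show u * (x * u) * u = u * x * (u * u) by group,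
            H65.mul_self_eq_one hu, mul_one]
        have h2 : u * (x * u) ^ i * u⁻¹ = ((x * u) ^ i)⁻¹ := by
          rw [← conj_pow, h1, inv_pow]
        calc u * ((x * u) ^ i)⁻¹ = u * (u * (x * u) ^ i * u⁻¹) := by rw [h2]
          _ = (x * u) ^ i * u⁻¹ := by
            rw [← mul_assoc, ← mul_assoc, H65.mul_self_eq_one hu, one_mul]
          _ = (x * u) ^ i * u := by rw [huu]
      rw [mul_assoc, hxu, ← mul_assoc, ← pow_add]
      have h3 : (x * u) ^ (j + 1 + (j + 1)) = x * u := by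
        rw [show j + 1 + (j + 1) = orderOf (x * u) + 1 by omega, pow_succ, pow_orderOf_eq_one,
          one_mul]
      rw [h3, mul_assoc, H65.mul_self_eq_one hu, mul_one]
    intro x
    constructor
    · rintro ⟨h1, h2⟩
      have hx : orderOf x = 2 := (H65.orderOf_of_isConj h1).symm.trans hu
      have hxg : orderOf (x⁻¹ * g) = 2 := (H65.orderOf_of_isConj h2).symm.trans hu
      refine key x hx ?_
      rw [eq_inv_iff_mul_eq_one, H65.inv_eq_self hx]
      have := H65.mul_self_eq_one hxg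
      rw [H65.inv_eq_self hx] at this
      calc x * g * x * g = x * g * (x * g) := by group
        _ = 1 := this
    · rintro ⟨⟨_, h, hh, rfl⟩, rfl⟩
      have hh' : h * g = g * h := mem_centralizer_singleton_iff.1 hh
      refine ⟨isConj_iff.2 ⟨h, (ConjAct.toConjAct_smul h u).symm⟩, ?_⟩
      show IsConj u ((ConjAct.toConjAct h • u)⁻¹ * g)
      rw [ConjAct.toConjAct_smul,
        show (h * u * h⁻¹)⁻¹ * g = h * (u⁻¹ * (h⁻¹ * g * h)) * h⁻¹ by group,
        show h⁻¹ * g * h = g by rw [mul_assoc, ← hh', inv_mul_cancel_left], huu, hg, ← mul_assoc u u v,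
        H65.mul_self_eq_one hu, one_mul]
      have huv : IsConj u v := by
        obtain ⟨k, hk⟩ := D.odd_orderOf_mul hu hv hne
        by_contra hnc
        obtain ⟨z, hz, hzu, hzv⟩ := H65.exists_invol_commute_of_not_isConj hu hv hnc
        exact hne ((D.pt_eq_of_commute hz hu hzu).symm.trans (D.pt_eq_of_commute hz hv hzv))
      exact huv.trans (isConj_iff.2 ⟨h, rfl⟩)
  have hcount : Nat.card {x : G // IsConj u x ∧ IsConj u (x⁻¹ * g)} = (orbit K u).ncard := by
    rw [← Nat.card_coe_set_eq]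
    exact Nat.card_congr (Equiv.subtypeEquivRight hset)
  have hdvd : (orbit K u).ncard ∣ Nat.card Cg := by
    rw [← index_stabilizer, show Nat.card Cg = Nat.card K from
      (card_map_of_injective (ConjAct.toConjAct (G := G)).injective).symm]
    exact index_dvd_card _
  exact hpC ((D.pairs u g hu).trans (hcount ▸ hdvd))

theorem exists_invol_pt (d : Ω) : ∃ (s : G) (hs : orderOf s = 2), D.pt hs = d := by
  obtain ⟨t, ht⟩ := D.exists_invol
  obtain ⟨g, hg⟩ := exists_smul_eq G (D.pt ht) d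
  refine ⟨g * t * g⁻¹, by rw [H65.orderOf_conj', ht], (D.eq_pt _ ?_).symm⟩
  rw [← hg, mul_smul, mul_smul, inv_smul_smul, D.smul_pt ht]

/-- Case B: an involution is determined by its point. -/
theorem eq_of_pt_eq {t t' : G} (ht : orderOf t = 2) (ht' : orderOf t' = 2)
    (h : D.pt ht = D.pt ht') : t = t' := by
  classical
  refine eq_of_smul_eq_smul (α := Ω) fun b => ?_
  by_cases hb : b = D.pt ht
  · rw [hb, D.smul_pt ht, h, D.smul_pt ht']
  have hsep : ∀ {x y : G} (hx : orderOf x = 2) (hy : orderOf y = 2), x • b = y • b →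
      D.pt hx = D.pt hy := by
    intro x y hx hy he
    refine D.pt_eq_of_fixed hx hy (a := y • b) ?_
    rw [mul_smul, ← mul_smul y y, H65.mul_self_eq_one hy, one_smul, he]
  choose s hs hsd using fun d : Ω => D.exists_invol_pt d
  let F : {d : Ω // d ≠ b} → {d : Ω // d ≠ b} := fun d =>
    ⟨s d • b, fun he => d.2 ((hsd d).symm.trans (D.eq_pt (hs d) he).symm)⟩
  have hF : Function.Injective F := by
    intro d e he
    have := hsep (hs d) (hs e) (congrArg Subtype.val he)
    rw [hsd, hsd] at this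
    exact Subtype.ext this
  have key : ∀ {x : G} (hx : orderOf x = 2), D.pt hx ≠ b → x • b = s (D.pt hx) • b := by
    intro x hx hxb
    obtain ⟨d, hd⟩ := Finite.surjective_of_injective hF
      ⟨x • b, fun he => hxb (D.eq_pt hx he).symm⟩
    have hd' : s d • b = x • b := congrArg Subtype.val hd
    have := hsep (hs d) hx hd'
    rw [hsd] at this
    rw [← hd', this]
  rw [key ht (fun he => hb he.symm), key ht' (fun he => hb (h.trans he).symm), h]

/-- The Sylow subgroup is normal and every involution inverts it. -/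
theorem exists_normal_inverted : ∃ P : Sylow p G, (P : Subgroup G).Normal ∧
    ∀ t : G, orderOf t = 2 → ∀ u ∈ P, t * u * t⁻¹ = u⁻¹ := by
  obtain ⟨w, hw⟩ := D.exists_invol
  obtain ⟨P, hP⟩ := D.invert w hw
  have hform : ∀ t : G, orderOf t = 2 → ∃ q ∈ P, t = q * w * q⁻¹ := by
    intro t ht
    obtain ⟨q, hq, hqa⟩ := D.sylow_transitive P (D.pt hw) (D.pt ht)
    have h2 : orderOf (q * w * q⁻¹) = 2 := by rw [H65.orderOf_conj', hw]
    refine ⟨q, hq, D.eq_of_pt_eq ht h2 (D.eq_pt h2 ?_)⟩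
    rw [← hqa, mul_smul, mul_smul, inv_smul_smul, D.smul_pt hw]
  refine ⟨P, ⟨fun u hu g => ?_⟩, fun t ht u hu => ?_⟩
  · have hcop : (Nat.card P).Coprime 2 := by
      obtain ⟨k, hk⟩ := IsPGroup.iff_card.1 P.isPGroup'
      rw [hk]
      exact ((Nat.coprime_primes hp.out Nat.prime_two).2 D.two).pow_left k
    obtain ⟨c, hc, hcu⟩ : ∃ c ∈ P, c * c = u := by
      refine ⟨((powCoprime hcop).symm ⟨u, hu⟩ : G), SetLike.coe_mem _, ?_⟩
      rw [← sq]
      simpa [powCoprime] using congrArg Subtype.val ((powCoprime hcop).apply_symm_apply ⟨u, hu⟩)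
    have h1 : u = (c * w * c⁻¹) * w := by
      have e : w * c⁻¹ * w⁻¹ = c := by rw [hP _ (inv_mem hc), inv_inv]
      calc u = c * (w * c⁻¹ * w⁻¹) := by rw [e, hcu]
        _ = (c * w * c⁻¹) * w⁻¹ := by group
        _ = (c * w * c⁻¹) * w := by rw [H65.inv_eq_self hw]
    obtain ⟨q₁, hq₁, e₁⟩ := hform (g * (c * w * c⁻¹) * g⁻¹)
      (by rw [H65.orderOf_conj', H65.orderOf_conj', hw])
    obtain ⟨q₂, hq₂, e₂⟩ := hform (g * w * g⁻¹) (by rw [H65.orderOf_conj', hw])
    rw [h1, show g * (c * w * c⁻¹ * w) * g⁻¹ = (g * (c * w * c⁻¹) * g⁻¹) * (g * w * g⁻¹) by group,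
      e₁, e₂, show q₁ * w * q₁⁻¹ * (q₂ * w * q₂⁻¹) = q₁ * (w * (q₁⁻¹ * q₂) * w) * q₂⁻¹ by group]
    nth_rw 2 [← H65.inv_eq_self hw]
    rw [hP _ (mul_mem (inv_mem hq₁) hq₂)]
    exact mul_mem (mul_mem hq₁ (inv_mem (mul_mem (inv_mem hq₁) hq₂))) (inv_mem hq₂)
  · obtain ⟨q, hq, rfl⟩ := hform t ht
    rw [show q * w * q⁻¹ * u * (q * w * q⁻¹)⁻¹ = q * (w * (q⁻¹ * u * q) * w⁻¹) * q⁻¹ by group,
      (D.sylow_comm P (inv_mem hq) hu).eq, inv_mul_cancel_right, hP u hu,
      (D.sylow_comm P hq (inv_mem hu)).eq, mul_inv_cancel_right]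

end Data

end Cfsg.Agent.H65.OddPCent
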