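import Cfsg.Agent.CharInduce.Induce
import Cfsg.Agent.CharBasic.Kernel
import Cfsg.Agent.BlockBasic.Covering
import Cfsg.Agent.H83.ClassConst

/-!
# A character of `2`-defect zero above an inverted abelian normal subgroup
-/

set_option autoImplicit false
set_option linter.style.haveILetI false

open scoped ComplexConjugate

namespace Cfsg.Agent.H65.OddPCent

open Cfsg.Agent.CharBasic

variable {G : Type*} [Group G] [Fintype G]

theorem exists_two_defect_zero (N : Subgroup G) [N.Normal] (hne : N ≠ ⊥)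
    (hodd : Odd (Nat.card N)) (hab : ∀ a b : N, a * b = b * a)
    (hinv : ∀ t : G, orderOf t = 2 → ∀ u ∈ N, t * u * t⁻¹ = u⁻¹) :
    ∃ χ : Cfsg.IrrCharacter G,
      (Cfsg.charDegree (χ : G → ℂ)).factorization 2 = (Nat.card G).factorization 2 := by
  classical
  haveI : Fintype N := Fintype.ofFinite _
  obtain ⟨⟨z, hz⟩, hz1⟩ : ∃ z : N, z ≠ 1 := by
    haveI := N.nontrivial_iff_ne_bot.2 hne
    exact exists_ne 1
  obtain ⟨θ, hθ⟩ := exists_irr_ne_of_ne_one hz1
  have hlin : (θ : N → ℂ) 1 = 1 := commutative_iff_forall_linear.1 hab θ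
  obtain ⟨χ, hχ⟩ := BlockBasic.exists_over N θ
  have hd := CharInduce.clifford_degree N χ.2 θ.2 hχ
  obtain ⟨e, he⟩ := classInner_isChar_nat
    (CharInduce.IsChar.res (IsIrr.isCharacter χ.2) N) (IsIrr.isCharacter θ.2)
  obtain ⟨h1, hpos⟩ := H83.charDegree_eq χ.2
  rw [he, hlin, mul_one, h1] at hd
  set T := CharInduce.inertia N (θ : N → ℂ) with hT
  have hd' : Cfsg.charDegree (χ : G → ℂ) = e * T.index := by exact_mod_cast hd
  have hToddd : ¬ 2 ∣ Nat.card T := by
    intro h
    obtain ⟨⟨t, htT⟩, ht⟩ := exists_prime_orderOf_dvd_card' 2 h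
    rw [Subgroup.orderOf_mk] at ht
    have hfix : ∀ n : N, (θ : N → ℂ) n⁻¹ = (θ : N → ℂ) n := by
      intro n
      have := congrFun ((CharInduce.mem_inertia N).1 htT) n
      rw [show CharInduce.conjFun N (θ : N → ℂ) t n = (θ : N → ℂ) n⁻¹ from
        congrArg (θ : N → ℂ) (Subtype.ext (by simpa using hinv t ht n n.2))] at this
      exact this
    obtain ⟨m, ρ, hρ, hθρ⟩ := θ.2
    have hm : m = 1 := by
      rw [← hθρ, Representation.char_one] at hlin
      simpa using hlin
    subst hm
    have hmul : ∀ a b : N, (θ : N → ℂ) (a * b) = (θ : N → ℂ) a * (θ : N → ℂ) b := by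
      intro a b
      rw [← hθρ]
      have hs : ∀ f : Module.End ℂ (Fin 1 → ℂ), ∃ c : ℂ, f = c • LinearMap.id := by
        intro f
        refine ⟨f (fun _ => 1) 0, LinearMap.ext fun v => ?_⟩
        have hv : v = v 0 • (fun _ => (1 : ℂ)) := by
          funext i
          fin_cases i
          simp
        rw [hv, map_smul, LinearMap.smul_apply, LinearMap.id_apply]
        funext i
        fin_cases i
        simp [mul_comm]
      show LinearMap.trace ℂ _ (ρ (a * b)) = LinearMap.trace ℂ _ (ρ a) * LinearMap.trace ℂ _ (ρ b)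
      rw [map_mul]
      obtain ⟨c, hc⟩ := hs (ρ a)
      obtain ⟨d, hd⟩ := hs (ρ b)
      rw [hc, hd, smul_mul_smul_comm,
        show (LinearMap.id * LinearMap.id : Module.End ℂ (Fin 1 → ℂ)) = LinearMap.id from rfl]
      simp [LinearMap.trace_id]
    have hsq : ∀ n : N, (θ : N → ℂ) (n * n) = 1 := by
      intro n
      rw [← hlin, ← mul_inv_cancel n]
      rw [hmul, hmul, hfix]
    have hcop : (Nat.card N).Coprime 2 := Nat.coprime_two_right.2 hodd
    apply hθ
    have h2 := hsq ((powCoprime hcop).symm ⟨z, hz⟩)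
    have e2 : (powCoprime hcop).symm ⟨z, hz⟩ * (powCoprime hcop).symm ⟨z, hz⟩ = (⟨z, hz⟩ : N) := by
      rw [← sq]
      exact (powCoprime hcop).apply_symm_apply ⟨z, hz⟩
    rw [e2] at h2
    rw [h2, hlin]
  refine ⟨χ, le_antisymm ?_ ?_⟩
  · exact (Nat.factorization_le_iff_dvd hpos.ne' Nat.card_pos.ne').2
      (H83.charDegree_dvd_card χ.2) 2
  · have hidx : T.index ∣ Cfsg.charDegree (χ : G → ℂ) := ⟨e, by rw [hd', mul_comm]⟩
    have h3 := (Nat.factorization_le_iff_dvd (Subgroup.index_ne_zero_of_finite) hpos.ne').2 hidx 2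
    have h4 : (Nat.card G).factorization 2 = T.index.factorization 2 := by
      rw [← T.card_mul_index, Nat.factorization_mul Nat.card_pos.ne'
        Subgroup.index_ne_zero_of_finite, Finsupp.add_apply,
        Nat.factorization_eq_zero_of_not_dvd hToddd, zero_add]
    omega

end Cfsg.Agent.H65.OddPCent
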